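import Mathlib
import Groth.Agent.Lib.Helper5.WEt.Basic

/-!
# Weakly étale ring maps and localizations at primes
-/

open TensorProduct

universe u

namespace Groth.Agent.Lib.Helper6.WEtStalk

/-- If `A' = M⁻¹A`, `B'` is a flat `B`-algebra and an `A'`-algebra compatibly, and the multiplication
`B' ⊗[A'] B' → B'` is flat, then the composite `B ⊗[A] B → B → B'` is flat. -/
theorem flat_comp_lmul' {A B : Type u} [CommRing A] [CommRing B] [Algebra A B]
    (A' B' : Type u) [CommRing A'] [CommRing B'] [Algebra A A'] [Algebra B B'] [Algebra A' B']
    [Algebra A B'] [IsScalarTower A A' B'] [IsScalarTower A B B'] (M : Submonoid A)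
    [IsLocalization M A'] [Module.Flat B B']
    (h : (Algebra.TensorProduct.lmul' A' (S := B')).toRingHom.Flat) :
    ((algebraMap B B').comp (Algebra.TensorProduct.lmul' A (S := B)).toRingHom).Flat := by
  let g : B →ₐ[A] B' := IsScalarTower.toAlgHom A B B'
  have hg : g.toRingHom.Flat := by
    show (algebraMap B B').Flat
    exact RingHom.flat_algebraMap_iff.mpr inferInstance
  have h1 : (Algebra.TensorProduct.map g g).toRingHom.Flat :=
    RingHom.Flat.tensorProductMap (R := A) (S := A) hg hg
  have hA' : Algebra.WeaklyEtale A A' := Helper5.WEt.weaklyEtale_of_isLocalization M A'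
  have h2 : (Algebra.TensorProduct.mapOfCompatibleSMul A' A B' B' B').toRingHom.Flat :=
    RingHom.Flat.mapOfCompatibleSMul B' B' (Algebra.WeaklyEtale.flat_lmul' A A')
  have e : (algebraMap B B').comp (Algebra.TensorProduct.lmul' A (S := B)).toRingHom =
      (Algebra.TensorProduct.lmul' A' (S := B')).toRingHom.comp
        ((Algebra.TensorProduct.mapOfCompatibleSMul A' A B' B' B').toRingHom.comp
          (Algebra.TensorProduct.map g g).toRingHom) := by
    refine RingHom.ext fun x => ?_
    induction x using TensorProduct.induction_on with
    | zero => simp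
    | add x y hx hy => simp only [map_add, hx, hy]
    | tmul b b' => simp [g]
  rw [e]
  exact (h1.comp h2).comp h


/-- Flatness of a ring map into a ring on which a localization of the source acts. -/
theorem flat_localRingHom_of_flat_comp {T B : Type u} [CommRing T] [CommRing B] (ψ : T →+* B)
    (q : Ideal B) [q.IsPrime]
    (h : ((algebraMap B (Localization.AtPrime q)).comp ψ).Flat) :
    (Localization.localRingHom (q.comap ψ) q ψ rfl).Flat := by
  algebraize [ψ, Localization.localRingHom (q.comap ψ) q ψ rfl]
  have : IsScalarTower T (Localization.AtPrime (q.comap ψ)) (Localization.AtPrime q) :=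
    .of_algebraMap_eq fun x ↦ (Localization.localRingHom_to_map _ _ _ rfl x).symm
  have hflat : Module.Flat T (Localization.AtPrime q) := by
    rw [← RingHom.flat_algebraMap_iff, IsScalarTower.algebraMap_eq T B (Localization.AtPrime q)]
    exact h
  exact (Module.flat_iff_of_isLocalization (Localization.AtPrime (q.comap ψ))
    (q.comap ψ).primeCompl (Localization.AtPrime q)).mpr hflat

/-- A ring map is weakly étale as soon as all its localizations at primes of the target are. -/
theorem weaklyEtale_of_forall_localRingHom {A B : Type u} [CommRing A] [CommRing B] [Algebra A B]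
    (H : ∀ (q : Ideal B) [q.IsPrime],
      letI := (Localization.localRingHom (q.comap (algebraMap A B)) q (algebraMap A B) rfl).toAlgebra
      Algebra.WeaklyEtale (Localization.AtPrime (q.comap (algebraMap A B)))
        (Localization.AtPrime q)) :
    Algebra.WeaklyEtale A B := by
  have hflat : Module.Flat A B := by
    rw [← RingHom.flat_algebraMap_iff]
    refine RingHom.Flat.ofLocalizationPrime (algebraMap A B) fun q hq => ?_
    have := H q
    let _ := (Localization.localRingHom (q.comap (algebraMap A B)) q (algebraMap A B) rfl).toAlgebra
    exact this.flat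
  refine ⟨hflat, ?_⟩
  refine RingHom.Flat.ofLocalizationPrime _ fun q hq => ?_
  apply flat_localRingHom_of_flat_comp
  have hq' := H q
  let _ := (Localization.localRingHom (q.comap (algebraMap A B)) q (algebraMap A B) rfl).toAlgebra
  have : IsScalarTower A (Localization.AtPrime (q.comap (algebraMap A B)))
      (Localization.AtPrime q) :=
    .of_algebraMap_eq fun x ↦ by
      rw [IsScalarTower.algebraMap_apply A B (Localization.AtPrime q)]
      exact (Localization.localRingHom_to_map _ _ _ rfl x).symm
  exact flat_comp_lmul' (Localization.AtPrime (q.comap (algebraMap A B))) (Localization.AtPrime q)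
    (q.comap (algebraMap A B)).primeCompl hq'.flat_lmul'


/-- Variant of `weaklyEtale_of_forall_localRingHom` indexed by points of the prime spectrum and
allowing any description of the contracted prime. -/
theorem weaklyEtale_of_forall_localRingHom' {A B : Type u} [CommRing A] [CommRing B] [Algebra A B]
    (H : ∀ q : PrimeSpectrum B, ∃ (I : Ideal A) (_ : I.IsPrime)
      (hI : I = q.asIdeal.comap (algebraMap A B)),
      letI := (Localization.localRingHom I q.asIdeal (algebraMap A B) hI).toAlgebra
      Algebra.WeaklyEtale (Localization.AtPrime I) (Localization.AtPrime q.asIdeal)) :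
    Algebra.WeaklyEtale A B := by
  apply weaklyEtale_of_forall_localRingHom
  intro q hq
  obtain ⟨I, hIp, hI, h⟩ := H ⟨q, hq⟩
  subst hI
  exact h

end Groth.Agent.Lib.Helper6.WEtStalk
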