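import Mathlib
import Groth.Agent.Lib.Helper5.WEt.Scheme
import Groth.Agent.Lib.Helper6.WEtStalk.Ring

/-!
# Weakly étale morphisms of schemes are detected on stalks
-/

open AlgebraicGeometry CategoryTheory Limits

universe u

namespace Groth.Agent.Lib.Helper6.WEtStalk

/-- The canonical morphism `Spec 𝒪_{X,x} ⟶ X` is flat. -/
theorem flat_fromSpecStalk (X : Scheme.{u}) (x : X) : Flat (X.fromSpecStalk x) := by
  obtain ⟨_, ⟨U, hU : IsAffineOpen U, rfl⟩, hxU, -⟩ :=
    X.isBasis_affineOpens.exists_subset_of_mem_open (Set.mem_univ x) isOpen_univ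
  rw [← hU.fromSpecStalk_eq_fromSpecStalk hxU, IsAffineOpen.fromSpecStalk]
  have : Flat (Spec.map (X.presheaf.germ U x hxU)) := by
    rw [HasRingHomProperty.Spec_iff (P := @Flat)]
    let _ := X.presheaf.algebra_section_stalk ⟨x, hxU⟩
    have := hU.isLocalization_stalk ⟨x, hxU⟩
    have hfl : Module.Flat Γ(X, U) (X.presheaf.stalk x) :=
      IsLocalization.flat _ (hU.primeIdealOf ⟨x, hxU⟩).asIdeal.primeCompl
    exact RingHom.flat_algebraMap_iff.mpr hfl
  infer_instance

/-- The canonical morphism `Spec 𝒪_{X,x} ⟶ X` is weakly étale. -/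
theorem weaklyEtale_fromSpecStalk (X : Scheme.{u}) (x : X) : WeaklyEtale (X.fromSpecStalk x) := by
  have := flat_fromSpecStalk X x
  exact { }

/-- The stalk maps of a weakly étale morphism are weakly étale. -/
theorem weaklyEtale_Spec_map_stalkMap {X Y : Scheme.{u}} (f : X ⟶ Y) [WeaklyEtale f] (x : X) :
    WeaklyEtale (Spec.map (f.stalkMap x)) := by
  have h1 := weaklyEtale_fromSpecStalk X x
  have h2 := weaklyEtale_fromSpecStalk Y (f x)
  have h3 : WeaklyEtale (Spec.map (f.stalkMap x) ≫ Y.fromSpecStalk (f x)) := by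
    rw [Scheme.SpecMap_stalkMap_fromSpecStalk]
    infer_instance
  exact WeaklyEtale.of_comp _ (Y.fromSpecStalk (f x))


/-- Weak étaleness of `Spec.map φ` in terms of flatness of `φ` and of the multiplication map. -/
theorem weaklyEtale_Spec_map_iff {R S : CommRingCat.{u}} (φ : R ⟶ S) :
    WeaklyEtale (Spec.map φ) ↔ φ.hom.Flat ∧
      (letI := φ.hom.toAlgebra
       (Algebra.TensorProduct.lmul' (S := ↑S) ↑R).toRingHom.Flat) := by
  rw [Helper5.WEt.weaklyEtale_Spec_iff']
  let _ := φ.hom.toAlgebra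
  rw [Algebra.weaklyEtale_iff]
  rfl

/-- A morphism all of whose stalk maps are weakly étale is weakly étale. -/
theorem weaklyEtale_of_forall_stalkMap {X Y : Scheme.{u}} (f : X ⟶ Y)
    (H : ∀ x : X, WeaklyEtale (Spec.map (f.stalkMap x))) : WeaklyEtale f := by
  rw [Helper5.WEt.weaklyEtale_iff_forall_affineOpens]
  intro U V hU hV hUV
  let _ := (f.appLE V U hUV).hom.toAlgebra
  apply weaklyEtale_of_forall_localRingHom'
  let Q : PrimeSpectrum Γ(X, U) → Prop := fun q =>
    ∃ (I : Ideal Γ(Y, V)) (_ : I.IsPrime)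
      (hI : I = q.asIdeal.comap (algebraMap Γ(Y, V) Γ(X, U))),
      letI := (Localization.localRingHom I q.asIdeal (algebraMap Γ(Y, V) Γ(X, U)) hI).toAlgebra
      Algebra.WeaklyEtale (Localization.AtPrime I) (Localization.AtPrime q.asIdeal)
  have key : ∀ x' : U, Q (hU.primeIdealOf x') := by
    intro x'
    have e := IsAffineOpen.arrowStalkMapIso f V hV U hU hUV x'.2
    have hW := (Helper5.WEt.weaklyEtale_Spec_arrow_iso _ _ e).mp (H x'.1)
    rw [Helper5.WEt.weaklyEtale_Spec_iff'] at hW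
    exact ⟨(hV.primeIdealOf ⟨f x'.1, hUV x'.2⟩).asIdeal, inferInstance,
      congr($(IsAffineOpen.comap_primeIdealOf_appLE V hV U hU hUV x'.2).1).symm, hW⟩
  intro q
  have hq : hU.primeIdealOf (hU.isoSpec.inv q) = q := by
    exact Scheme.inv_hom_apply hU.isoSpec q
  have := key (hU.isoSpec.inv q)
  rw [hq] at this
  exact this

end Groth.Agent.Lib.Helper6.WEtStalk
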